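import Mathlib

universe u

namespace Groth.Agent.H5Witt

open WittVector Finset

variable (p : ℕ) [Fact p.Prime] {R : Type u} [CommRing R]

/-- ideal of Witt vectors whose first `m` coefficients lie in `J`. -/
noncomputable def coeffIdeal (m : ℕ) (J : Ideal R) : Ideal (WittVector p R) :=
  RingHom.ker ((WittVector.truncate (p := p) m).comp (WittVector.map (Ideal.Quotient.mk J)))

theorem mem_coeffIdeal {m : ℕ} {J : Ideal R} {x : WittVector p R} :
    x ∈ coeffIdeal p m J ↔ ∀ i < m, x.coeff i ∈ J := by
  rw [coeffIdeal, RingHom.mem_ker, RingHom.comp_apply, ← RingHom.mem_ker, mem_ker_truncate]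
  simp only [WittVector.map_coeff, Ideal.Quotient.eq_zero_iff_mem]

/-- two Witt vectors congruent modulo `coeffIdeal` have congruent coefficients. -/
theorem coeff_sub_mem_of_sub_mem {m : ℕ} {J : Ideal R} {x y : WittVector p R}
    (h : x - y ∈ coeffIdeal p m J) : ∀ i < m, x.coeff i - y.coeff i ∈ J := by
  intro i hi
  rw [coeffIdeal, RingHom.mem_ker, map_sub, sub_eq_zero, RingHom.comp_apply,
    RingHom.comp_apply] at h
  have h2 := congrArg (fun w => TruncatedWittVector.coeff ⟨i, hi⟩ w) h
  simp only [WittVector.coeff_truncate, WittVector.map_coeff] at h2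
  rw [← Ideal.Quotient.eq_zero_iff_mem, map_sub, sub_eq_zero]
  exact h2

theorem sub_mem_of_coeff_sub_mem {m : ℕ} {J : Ideal R} {x y : WittVector p R}
    (h : ∀ i < m, x.coeff i - y.coeff i ∈ J) : x - y ∈ coeffIdeal p m J := by
  rw [coeffIdeal, RingHom.mem_ker, map_sub, sub_eq_zero, RingHom.comp_apply,
    RingHom.comp_apply]
  apply TruncatedWittVector.ext
  intro i
  simp only [WittVector.coeff_truncate, WittVector.map_coeff]
  have := h i i.2
  rwa [← Ideal.Quotient.eq_zero_iff_mem, map_sub, sub_eq_zero] at this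

theorem ghostComponent_eq_sum (n : ℕ) (x : WittVector p R) :
    ghostComponent n x = ∑ i ∈ range (n + 1), (p : R) ^ i * x.coeff i ^ p ^ (n - i) := by
  rw [ghostComponent_apply, aeval_wittPolynomial]

theorem pow_cancel (hR : ∀ y : R, (p : R) * y = 0 → y = 0) (k : ℕ) (y : R)
    (h : (p : R) ^ k * y = 0) : y = 0 := by
  induction k with
  | zero => simpa using h
  | succ k ih =>
    apply ih
    apply hR
    rw [← mul_assoc, ← pow_succ']
    exact h

theorem mem_span_pow_of_mul_mem (hR : ∀ y : R, (p : R) * y = 0 → y = 0) (k t : ℕ) (y : R)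
    (h : (p : R) ^ k * y ∈ Ideal.span {(p : R) ^ (t + k)}) : y ∈ Ideal.span {(p : R) ^ t} := by
  rw [Ideal.mem_span_singleton'] at h ⊢
  obtain ⟨r, hr⟩ := h
  refine ⟨r, ?_⟩
  have : (p : R) ^ k * (r * (p : R) ^ t - y) = 0 := by
    rw [mul_sub, ← hr, pow_add]; ring
  have := pow_cancel p hR k _ this
  exact sub_eq_zero.1 this

/-- quantitative torsion-freeness of truncated Witt vectors. -/
theorem mem_coeffIdeal_of_pow_mul_mem (hR : ∀ y : R, (p : R) * y = 0 → y = 0) (u m s : ℕ)
    (y : WittVector p R)
    (h : (p : WittVector p R) ^ u * y ∈ coeffIdeal p m (Ideal.span {(p : R) ^ (s + u + m)})) :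
    y ∈ coeffIdeal p m (Ideal.span {(p : R) ^ s}) := by
  rw [mem_coeffIdeal] at h ⊢
  set v := (p : WittVector p R) ^ u * y with hv
  -- ghost components of y lie in (p^(s+m))
  have hg : ∀ n < m, ghostComponent n y ∈ Ideal.span {(p : R) ^ (s + m)} := by
    intro n hn
    apply mem_span_pow_of_mul_mem p hR u
    have h1 : (p : R) ^ u * ghostComponent n y = ghostComponent n v := by
      rw [hv, map_mul, map_pow, map_natCast]
    rw [h1, ghostComponent_eq_sum]
    apply Ideal.sum_mem
    intro i hi
    apply Ideal.mul_mem_left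
    have hi' : i < m := lt_of_le_of_lt (Nat.lt_succ_iff.1 (mem_range.1 hi)) hn
    have h2 := h i hi'
    have h3 : s + m + u = s + u + m := by ring
    rw [h3]
    exact Ideal.pow_mem_of_mem _ h2 _ (Nat.pos_of_ne_zero (pow_ne_zero _ (Fact.out : p.Prime).ne_zero))
  -- induction
  have key : ∀ n, n < m → y.coeff n ∈ Ideal.span {(p : R) ^ (s + m - n)} := by
    intro n
    induction n using Nat.strong_induction_on with
    | _ n ih =>
      intro hn
      have h1 := hg n hn
      rw [ghostComponent_eq_sum, Finset.sum_range_succ, Nat.sub_self, pow_zero, pow_one] at h1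
      have h2 : ∑ i ∈ range n, (p : R) ^ i * y.coeff i ^ p ^ (n - i) ∈
          Ideal.span {(p : R) ^ (s + m)} := by
        apply Ideal.sum_mem
        intro i hi
        have hin : i < n := mem_range.1 hi
        have h3 := ih i hin (hin.trans hn)
        have h4 : y.coeff i ^ p ^ (n - i) ∈ Ideal.span {(p : R) ^ (s + m - i)} :=
          Ideal.pow_mem_of_mem _ h3 _
            (Nat.pos_of_ne_zero (pow_ne_zero _ (Fact.out : p.Prime).ne_zero))
        rw [Ideal.mem_span_singleton'] at h4 ⊢
        obtain ⟨r, hr⟩ := h4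
        refine ⟨r, ?_⟩
        rw [← hr]
        have : s + m = (s + m - i) + i := by omega
        conv_lhs => rw [this, pow_add]
        ring
      have h5 : (p : R) ^ n * y.coeff n ∈ Ideal.span {(p : R) ^ (s + m)} := by
        have := Ideal.sub_mem _ h1 h2
        rwa [add_sub_cancel_left] at this
      apply mem_span_pow_of_mul_mem p hR n
      have : s + m - n + n = s + m := by omega
      rw [this]
      exact h5
  intro i hi
  have h1 := key i hi
  have hle : Ideal.span {(p : R) ^ (s + m - i)} ≤ Ideal.span {(p : R) ^ s} := by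
    rw [Ideal.span_singleton_le_span_singleton]
    exact pow_dvd_pow _ (by omega)
  exact hle h1

end Groth.Agent.H5Witt
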