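import Mathlib
import Groth.Agent.Lib.Helper5.Witt.A

universe u

namespace Groth.Agent.H5Witt

open WittVector Finset

variable (p : ℕ) [Fact p.Prime] {R : Type u} [CommRing R]

theorem coeffIdeal_mono {m : ℕ} {J J' : Ideal R} (h : J ≤ J') : coeffIdeal p m J ≤ coeffIdeal p m J' := by
  intro x hx
  rw [mem_coeffIdeal] at hx ⊢
  exact fun i hi => h (hx i hi)

theorem span_pow_le {s t : ℕ} (h : s ≤ t) :
    Ideal.span {(p : R) ^ t} ≤ Ideal.span {(p : R) ^ s} := by
  rw [Ideal.span_singleton_le_span_singleton]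
  exact pow_dvd_pow _ h

theorem smodEq_iff (x y : R) (n : ℕ) :
    x ≡ y [SMOD ((Ideal.span {(p : R)}) ^ n • ⊤ : Submodule R R)] ↔
      x - y ∈ Ideal.span {(p : R) ^ n} := by
  rw [SModEq.sub_mem, smul_eq_mul, Ideal.mul_top, Ideal.span_singleton_pow]

theorem exists_solution (hR : ∀ y : R, (p : R) * y = 0 → y = 0)
    [IsAdicComplete (Ideal.span {(p : R)}) R]
    (a : WittVector p R) (m u : ℕ)
    (h : ∀ s : ℕ, ∃ z : WittVector p R, ∀ i < m,
      ((p : WittVector p R) ^ u * z - a).coeff i ∈ Ideal.span {(p : R) ^ s}) :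
    ∃ x : WittVector p R, ∀ i < m, ((p : WittVector p R) ^ u * x - a).coeff i = 0 := by
  choose z hz using h
  set Z : ℕ → WittVector p R := fun s => z (s + u + m) with hZdef
  have hZ : ∀ s, (p : WittVector p R) ^ u * Z s - a ∈
      coeffIdeal p m (Ideal.span {(p : R) ^ (s + u + m)}) := by
    intro s
    rw [mem_coeffIdeal]
    exact hz (s + u + m)
  have hcauchy : ∀ s s', s ≤ s' → Z s - Z s' ∈ coeffIdeal p m (Ideal.span {(p : R) ^ s}) := by
    intro s s' hss
    apply mem_coeffIdeal_of_pow_mul_mem p hR u m s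
    have : (p : WittVector p R) ^ u * (Z s - Z s') =
        ((p : WittVector p R) ^ u * Z s - a) - ((p : WittVector p R) ^ u * Z s' - a) := by ring
    rw [this]
    refine Ideal.sub_mem _ (hZ s) ?_
    exact coeffIdeal_mono p (span_pow_le p (by omega)) (hZ s')
  -- limits
  have hlim : ∀ i, ∃ L : R, i < m → ∀ s, (Z s).coeff i - L ∈ Ideal.span {(p : R) ^ s} := by
    intro i
    by_cases hi : i < m
    · have := IsPrecomplete.prec (I := Ideal.span {(p : R)}) (M := R) inferInstance
        (f := fun s => (Z s).coeff i) (by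
          intro s s' hss
          rw [smodEq_iff]
          exact coeff_sub_mem_of_sub_mem p (hcauchy s s' hss) i hi)
      obtain ⟨L, hL⟩ := this
      refine ⟨L, fun _ s => ?_⟩
      have := hL s
      rwa [smodEq_iff] at this
    · exact ⟨0, fun h => absurd h hi⟩
  choose L hL using hlim
  refine ⟨WittVector.mk p L, ?_⟩
  have hx : ∀ s, WittVector.mk p L - Z s ∈ coeffIdeal p m (Ideal.span {(p : R) ^ s}) := by
    intro s
    apply sub_mem_of_coeff_sub_mem
    intro i hi
    have := hL i hi s
    rw [WittVector.coeff_mk]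
    rw [← neg_sub]
    exact Ideal.neg_mem_iff _ |>.2 this
  have hmem : ∀ s, (p : WittVector p R) ^ u * WittVector.mk p L - a ∈
      coeffIdeal p m (Ideal.span {(p : R) ^ s}) := by
    intro s
    have : (p : WittVector p R) ^ u * WittVector.mk p L - a =
        (p : WittVector p R) ^ u * (WittVector.mk p L - Z s) +
          ((p : WittVector p R) ^ u * Z s - a) := by ring
    rw [this]
    refine Ideal.add_mem _ (Ideal.mul_mem_left _ _ (hx s)) ?_
    exact coeffIdeal_mono p (span_pow_le p (by omega)) (hZ s)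
  intro i hi
  apply IsHausdorff.haus (I := Ideal.span {(p : R)}) (M := R) inferInstance
  intro n
  rw [smodEq_iff, sub_zero]
  exact (mem_coeffIdeal p).1 (hmem n) i hi

/-- torsion-freeness of truncated Witt vectors. -/
theorem coeff_eq_zero_of_pow_mul (hR : ∀ y : R, (p : R) * y = 0 → y = 0)
    [IsAdicComplete (Ideal.span {(p : R)}) R] (u m : ℕ) (y : WittVector p R)
    (h : ∀ i < m, ((p : WittVector p R) ^ u * y).coeff i = 0) : ∀ i < m, y.coeff i = 0 := by
  intro i hi
  apply IsHausdorff.haus (I := Ideal.span {(p : R)}) (M := R) inferInstance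
  intro n
  rw [smodEq_iff, sub_zero]
  have : y ∈ coeffIdeal p m (Ideal.span {(p : R) ^ n}) := by
    apply mem_coeffIdeal_of_pow_mul_mem p hR u m n
    rw [mem_coeffIdeal]
    intro j hj
    rw [h j hj]
    exact Ideal.zero_mem _
  exact (mem_coeffIdeal p).1 this i hi

end Groth.Agent.H5Witt
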