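import Mathlib
import Groth.Agent.Lib.Helper5.Witt.A
import Groth.Agent.Lib.Helper5.Witt.B

universe u

namespace Groth.Agent.H5Witt

open WittVector Finset

variable (p : ℕ) [Fact p.Prime] {S : Type u} [CommRing S]

theorem iInf_eq (hS : ∀ y : S, (p : S) * y = 0 → y = 0) [IsAdicComplete (Ideal.span {(p : S)}) S]
    (u : ℕ) :
    (⨅ r : ℕ, ⨅ s : ℕ,
        Ideal.span {(p : WittVector p S) ^ u} ⊔
          RingHom.ker (WittVector.truncate (p := p) (R := S) r) ⊔
          RingHom.ker (WittVector.map (p := p) (Ideal.Quotient.mk (Ideal.span {(p : S) ^ s})))) =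
      Ideal.span {(p : WittVector p S) ^ u} := by
  apply le_antisymm
  · intro y hy
    simp only [Submodule.mem_iInf] at hy
    -- solutions at each truncation level
    have hsol : ∀ r : ℕ, ∃ x : WittVector p S, ∀ i < r,
        ((p : WittVector p S) ^ u * x - y).coeff i = 0 := by
      intro r
      apply exists_solution p hS y r u
      intro s
      obtain ⟨a, ha, c, hc, hac⟩ := Submodule.mem_sup.1 (hy r s)
      obtain ⟨q, hq, b, hb, hqb⟩ := Submodule.mem_sup.1 ha
      obtain ⟨z, rfl⟩ := Ideal.mem_span_singleton'.1 hq
      refine ⟨z, ?_⟩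
      rw [← mem_coeffIdeal]
      have : (p : WittVector p S) ^ u * z - y = -(b + c) := by
        rw [← hac, ← hqb]; ring
      rw [this]
      apply Ideal.neg_mem_iff _ |>.2
      apply Ideal.add_mem
      · rw [mem_coeffIdeal]
        intro i hi
        rw [(mem_ker_truncate r b).1 hb i hi]
        exact Ideal.zero_mem _
      · rw [mem_coeffIdeal]
        intro i _
        rw [← Ideal.Quotient.eq_zero_iff_mem, ← WittVector.map_coeff]
        rw [RingHom.mem_ker] at hc
        rw [hc, WittVector.zero_coeff]
    choose x hx using hsol
    have hcompat : ∀ r r', r ≤ r' → ∀ i < r, (x r).coeff i = (x r').coeff i := by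
      intro r r' hrr i hi
      have h1 : ∀ j < r, ((p : WittVector p S) ^ u * (x r - x r')).coeff j = 0 := by
        rw [← mem_ker_truncate]
        have : (p : WittVector p S) ^ u * (x r - x r') =
            ((p : WittVector p S) ^ u * x r - y) - ((p : WittVector p S) ^ u * x r' - y) := by ring
        rw [this]
        apply Ideal.sub_mem
        · rw [mem_ker_truncate]; exact hx r
        · rw [mem_ker_truncate]; exact fun j hj => hx r' j (hj.trans_le hrr)
      have h2 := coeff_eq_zero_of_pow_mul p hS u r _ h1
      rw [← mem_ker_truncate, RingHom.mem_ker, map_sub, sub_eq_zero] at h2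
      have h3 := congrArg (fun w => TruncatedWittVector.coeff ⟨i, hi⟩ w) h2
      simpa only [WittVector.coeff_truncate] using h3
    set X : WittVector p S := WittVector.mk p (fun i => (x (i + 1)).coeff i) with hX
    have hXr : ∀ r, WittVector.truncate (p := p) r X = WittVector.truncate r (x r) := by
      intro r
      apply TruncatedWittVector.ext
      intro i
      rw [WittVector.coeff_truncate, WittVector.coeff_truncate, hX, WittVector.coeff_mk]
      exact (hcompat (i + 1) r i.2 i (Nat.lt_succ_self _))
    have hzero : (p : WittVector p S) ^ u * X - y = 0 := by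
      have : (p : WittVector p S) ^ u * X - y ∈
          ⨅ i : ℕ, RingHom.ker (WittVector.truncate (p := p) (R := S) i) := by
        rw [Submodule.mem_iInf]
        intro r
        rw [RingHom.mem_ker, map_sub, map_mul, hXr r, ← map_mul, ← map_sub, ← RingHom.mem_ker,
          mem_ker_truncate]
        exact hx r
      rw [TruncatedWittVector.iInf_ker_truncate] at this
      exact this
    rw [Ideal.mem_span_singleton']
    exact ⟨X, by rw [mul_comm]; exact sub_eq_zero.1 hzero⟩
  · refine le_iInf fun r => le_iInf fun s => ?_
    exact le_sup_of_le_left le_sup_left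

end Groth.Agent.H5Witt
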